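import Groth.Agent.PicDef15.Adic
import Groth.Agent.Coherent.Existence.AmpleAlgebraize
import Groth.Agent.PicLib.FormalGen
import Groth.Prelude.Def_Formal2

/-!
# Line bundles on a proper flat scheme over a complete local ring and on its closed fibre
-/

set_option autoImplicit false
set_option backward.isDefEq.respectTransparency.types false

universe u

open CategoryTheory CategoryTheory.Limits AlgebraicGeometry Opposite TopologicalSpace
open Groth.Agent.Coherent Groth.Agent.Coherent.Serre Groth.Agent.Coherent.Existence Groth.Agent.PicLib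
open Groth.Agent.AmpleLib

noncomputable section

namespace Groth.Agent.PicDef15

theorem subsingleton_HH_of_isIso {Z Z' : Scheme.{u}} (E : Z ⟶ Z') [IsIso E] (n : ℕ)
    (h : Subsingleton (Coh.HH Z (Coh.structureModule Z) n)) :
    Subsingleton (Coh.HH Z' (Coh.structureModule Z') n) := by
  have : Coh.IsQCoh (Coh.structureModule Z) := isQCoh_structureModule
  have h' : Subsingleton (Coh.HH Z' ((Coh.push E).obj (Coh.structureModule Z)) n) :=
    (HHAffinePushEquiv E (Coh.structureModule Z) n).symm.subsingleton
  have : IsIso (ClSub.unitToPush E) := by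
    rw [Scheme.Modules.Hom.isIso_iff_isIso_app]
    intro U
    rw [ConcreteCategory.isIso_iff_bijective]
    exact ConcreteCategory.bijective_of_isIso (E.app U)
  let e := asIso (ClSub.unitToPush E)
  refine subsingleton_of_forall_eq 0 fun x => ?_
  have e1 : Sheaf.H.map ((toAbFunctor Z').map e.inv) n (Sheaf.H.map ((toAbFunctor Z').map e.hom) n x) = x := by
    rw [← Sheaf.H.map_comp_apply, ← Functor.map_comp, e.hom_inv_id, CategoryTheory.Functor.map_id,
      Sheaf.H.map_id_apply]
  rw [← e1, Subsingleton.elim (Sheaf.H.map ((toAbFunctor Z').map e.hom) n x) 0, map_zero]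

variable {A : Type u} [CommRing A] [IsLocalRing A] {X : Scheme.{u}} (f : X ⟶ Spec (CommRingCat.of A))

/-- The closed fibre and the first thickening agree. -/
theorem exists_fibre_iso :
    ∃ E : pullback f (Spec.map (CommRingCat.ofHom (IsLocalRing.residue A))) ⟶
        CohB1.thick f (IsLocalRing.maximalIdeal A) 0,
      IsIso E ∧ E ≫ CohB1.thickι f (IsLocalRing.maximalIdeal A) 0 = pullback.fst _ _ := by
  let 𝔪 := IsLocalRing.maximalIdeal A
  let q : A ⧸ 𝔪 ^ (0 + 1) ≃+* IsLocalRing.ResidueField A :=
    Ideal.quotEquivOfEq (show 𝔪 ^ (0 + 1) = 𝔪 by rw [zero_add, pow_one])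
  let e : Spec (CommRingCat.of (IsLocalRing.ResidueField A)) ⟶ Spec (CommRingCat.of (A ⧸ 𝔪 ^ (0 + 1))) :=
    Spec.map (CommRingCat.ofHom q.toRingHom)
  have : IsIso (CommRingCat.ofHom q.toRingHom) := (ConcreteCategory.isIso_iff_bijective _).2 q.bijective
  have : IsIso e := inferInstanceAs (IsIso (Spec.map _))
  have h : Spec.map (CommRingCat.ofHom (IsLocalRing.residue A)) ≫ 𝟙 _ = e ≫ CohB1.specQuot 𝔪 0 := by
    rw [Category.comp_id, CohB1.specQuot, ← Spec.map_comp]
    rfl
  have h' : f ≫ 𝟙 _ = 𝟙 X ≫ f := by simp
  exact ⟨pullback.map f (Spec.map (CommRingCat.ofHom (IsLocalRing.residue A))) f (CohB1.specQuot 𝔪 0)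
    (𝟙 X) e (𝟙 _) h' h, pullback.map_isIso _ _ _ _ _ _ _ _ _, by
      show pullback.map _ _ _ _ _ _ _ _ _ ≫ pullback.fst _ _ = _
      rw [pullback.lift_fst, Category.comp_id]⟩

variable [IsNoetherianRing A] [IsAdicComplete (IsLocalRing.maximalIdeal A) A] [IsProper f] [Flat f]

/-- A line bundle on the closed fibre extends when `H²` of the fibre vanishes. -/
theorem picPullbackSurjective_closedFibre
    (h2 : Subsingleton (Coh.HH (pullback f (Spec.map (CommRingCat.ofHom (IsLocalRing.residue A))))
      (Coh.structureModule _) 2)) :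
    Formal2.PicPullbackSurjective (pullback.fst f (Spec.map (CommRingCat.ofHom (IsLocalRing.residue A)))) := by
  intro L' hL'
  obtain ⟨E, hE, hEι⟩ := exists_fibre_iso f
  let I := IsLocalRing.maximalIdeal A
  let _ : X.Over (Spec (CommRingCat.of A)) := ⟨f⟩
  have : IsProper (X ↘ Spec (CommRingCat.of A)) := ‹IsProper f›
  have : IsLocallyNoetherian X := LocallyOfFiniteType.isLocallyNoetherian f
  have hι := fun k => isClosedImmersion_thickι f I k
  have hsepX : X.IsSeparated := ⟨by
    rw [← terminal.comp_from f]
    infer_instance⟩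
  have : (CohB1.thick f I 0).IsSeparated := ⟨by
    rw [← terminal.comp_from (CohB1.thickι f I 0)]
    have := hsepX.1
    infer_instance⟩
  have hflat : ∀ n, Flat (CohB1.thickToBase f I n) := fun n =>
    inferInstanceAs (Flat (pullback.snd f (CohB1.specQuot I n)))
  have hcart := isPullback_thickTrans f I
  have h20 := subsingleton_HH_of_isIso E 2 h2
  choose next hnext hiso using fun (n : ℕ) (L : {L : (CohB1.thick f I n).Modules // PicF.IsInvertible L}) =>
    exists_lift_level (fun k => hcart k) hflat h20 n L.2
  let seq : ∀ n, {L : (CohB1.thick f I n).Modules // PicF.IsInvertible L} := fun n =>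
    Nat.rec (motive := fun n => {L : (CohB1.thick f I n).Modules // PicF.IsInvertible L})
      ⟨(Scheme.Modules.pullback (inv E)).obj L', PicLoc.isInvertible_pullback (inv E) hL'⟩
      (fun n L => ⟨next n L, hnext n L⟩) n
  let S := AdicSys.ofCart I (fun n => CohB1.thick f I n) (fun n => CohB1.thickToBase f I n)
    (fun n => CohB1.thickTrans f I n) hcart
  let Ls : AdicMod S := ⟨fun n => (seq n).1, fun n => (hiso n (seq n)).some⟩
  let w : ∀ k, S.X k ⟶ X := fun k => CohB1.thickι f I k
  have : ∀ k, IsClosedImmersion (w k) := hι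
  have hws : ∀ k, w k ≫ f = S.s k := fun k => pullback.condition
  have hwt : ∀ k, S.i k ≫ w (k + 1) = w k := fun k => thickTrans_thickι f I k
  have hLc : ∀ k, Coh.IsCoh (Ls.F k) := fun k => by
    have : IsLocallyNoetherian (CohB1.thick f I k) := LocallyOfFiniteType.isLocallyNoetherian (CohB1.thickι f I k)
    exact PicLib.isCoh_of_isInvertible (seq k).2
  have hG := isCohFormal_modSys (S := S) Ls w hwt hws hLc
  obtain ⟨M, hM, ⟨e⟩⟩ := algebraizable_of_proper (I := I) X _ hG
  have hMk : ∀ k, Nonempty ((Scheme.Modules.pullback (CohB1.thickι f I k)).obj M ≅ (seq k).1) := fun k =>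
    nonempty_pull_iso_of_completion (S := S) Ls w hwt hws e k
  have hju : ∀ k, S.j k ≫ w k = w 0 := fun k => by
    induction k with
    | zero => exact Category.id_comp _
    | succ k ih => rw [AdicSys.j_succ, Category.assoc]; exact (congrArg (_ ≫ ·) (hwt k)).trans ih
  have hjs : ∀ k, Surjective (S.j k) := fun k => by
    induction k with
    | zero => exact inferInstanceAs (Surjective (𝟙 (S.X 0)))
    | succ k ih =>
      have : Surjective (S.i k) := MorphismProperty.of_isPullback (hcart k).flip (surjective_specQuotTrans I k)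
      exact inferInstanceAs (Surjective (S.j k ≫ S.i k))
  have hMi : PicF.IsInvertible M := isInvertible_of_levels (I := I) w
    (fun k => mem_openIdeal_pow_of_isPullback I k (IsPullback.of_hasPullback f (CohB1.specQuot I k)))
    (fun y hy => mem_range_of_isPullback_specQuot I 0 (IsPullback.of_hasPullback f (CohB1.specQuot I 0)) hy)
    (fun k => by
      rw [← hju k, Scheme.Hom.comp_base, TopCat.coe_comp, Set.range_comp]
      have := hjs k
      exact (congrArg (w k '' ·) (S.j k).surjective.range_eq).trans Set.image_univ)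
    S.j hju hM fun k => glocus_isInvertible_of_iso (hMk k).some.symm (seq k).2
  refine ⟨M, hMi, ⟨(Scheme.Modules.pullbackCongr hEι.symm).app M ≪≫
    ((Scheme.Modules.pullbackComp E (CohB1.thickι f I 0)).app M).symm ≪≫
    (Scheme.Modules.pullback E).mapIso (hMk 0).some ≪≫
    (Scheme.Modules.pullbackComp E (inv E)).app L' ≪≫
    (Scheme.Modules.pullbackCongr (IsIso.hom_inv_id E)).app L' ≪≫
    (Scheme.Modules.pullbackId _).app L'⟩⟩

/-- A line bundle trivial on the closed fibre is trivial when `H¹` of the fibre vanishes. -/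
theorem picPullbackInjective_closedFibre
    (h1 : Subsingleton (Coh.HH (pullback f (Spec.map (CommRingCat.ofHom (IsLocalRing.residue A))))
      (Coh.structureModule _) 1)) :
    Formal2.PicPullbackInjective (pullback.fst f (Spec.map (CommRingCat.ofHom (IsLocalRing.residue A)))) := by
  intro L hL hpull
  obtain ⟨e₀⟩ := hpull
  obtain ⟨E, hE, hEι⟩ := exists_fibre_iso f
  let I := IsLocalRing.maximalIdeal A
  let _ : X.Over (Spec (CommRingCat.of A)) := ⟨f⟩
  have : IsProper (X ↘ Spec (CommRingCat.of A)) := ‹IsProper f›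
  have hflat : ∀ n, Flat (CohB1.thickToBase f I n) := fun n =>
    inferInstanceAs (Flat (pullback.snd f (CohB1.specQuot I n)))
  have hcart := isPullback_thickTrans f I
  have h10 := subsingleton_HH_of_isIso E 1 h1
  have hlev : ∀ n, Nonempty ((Scheme.Modules.pullback (CohB1.thickι f I n)).obj L ≅ Coh.structureModule _) := fun n => by
    induction n with
    | zero =>
      obtain ⟨c⟩ := exists_pullStructureIso (inv E)
      exact ⟨(Scheme.Modules.pullbackCongr (show CohB1.thickι f I 0 = inv E ≫ pullback.fst _ _ by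
          rw [← hEι, IsIso.inv_hom_id_assoc])).app L ≪≫
        ((Scheme.Modules.pullbackComp (inv E) _).app L).symm ≪≫ (Scheme.Modules.pullback (inv E)).mapIso e₀ ≪≫ c⟩
    | succ n ih =>
      obtain ⟨a⟩ := ih
      obtain ⟨b⟩ := exists_pullStructureIso (CohB1.thickTrans f I n)
      exact nonempty_iso_level (fun k => hcart k) hflat h10 n (PicLoc.isInvertible_pullback _ hL)
        isInvertible_structureModule
        ((Scheme.Modules.pullbackComp (CohB1.thickTrans f I n) (CohB1.thickι f I (n + 1))).app L ≪≫
          (Scheme.Modules.pullbackCongr (thickTrans_thickι f I n)).app L ≪≫ a ≪≫ b.symm)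
  obtain ⟨s, hs⟩ := exists_glocus_of_formal I hL fun n =>
    (PicM.pull_of _ hL).trans ((PicM.of_eq_one_iff _).2 (hlev n))
  have htop : glocus L s = ⊤ := eq_top_of_contains_special (I := I) _ hs
  have hgen : IsGen L ⊤ s := by
    intro V hV
    have := isGen_glocus (L := L) s V (hV.trans htop.ge)
    simpa only [resM_resM] using this
  have : IsIso (unitDesc L s) := by
    refine isIso_of_isGen _ ?_
    rw [unitVal_unitDesc, resM_self]
    exact hgen
  exact ⟨(asIso (unitDesc L s)).symm⟩

end Groth.Agent.PicDef15
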