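import Groth.Agent.Coherent.CechCompare
import Mathlib.AlgebraicGeometry.Morphisms.Separated

/-!
# Čech cocycles and vanishing of `H²`
-/

set_option autoImplicit false
set_option backward.isDefEq.respectTransparency false

universe u

open CategoryTheory CategoryTheory.Limits AlgebraicGeometry Opposite TopologicalSpace
open Groth.Agent.Coherent Groth.Agent.Coherent.CohBC

namespace Groth.Agent.PicDef15

variable {X : Scheme.{u}} {ι : Type u} (W : ι → X.Opens)

theorem isAffineOpen_cinter [X.IsSeparated] (hW : ∀ i, IsAffineOpen (W i)) :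
    ∀ (p : ℕ) (a : Fin (p + 1) → ι), IsAffineOpen (cinter W a) := by
  intro p
  induction p with
  | zero =>
    intro a
    rw [show cinter W a = W (a 0) from le_antisymm (iInf_le (fun k : Fin 1 => W (a k)) 0)
      (le_iInf fun k => le_of_eq (by rw [Fin.fin_one_eq_zero k]))]
    exact hW _
  | succ p ih =>
    intro a
    rw [show cinter W a = W (a 0) ⊓ cinter W (fun k => a k.succ) from le_antisymm
      (le_inf (iInf_le _ _) (le_iInf fun k => iInf_le _ _)) (le_iInf fun k => by
        induction k using Fin.cases with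
        | zero => exact inf_le_left
        | succ j => exact inf_le_right.trans (iInf_le (fun k : Fin (p + 1) => W (a k.succ)) j))]
    exact (hW _).inf (ih _)

/-- A 2-cocycle of a quasi-coherent module with vanishing `H²` is a coboundary. -/
theorem exists_coboundary_two [X.IsSeparated] (hcov : ⨆ i, W i = ⊤) (hW : ∀ i, IsAffineOpen (W i))
    (F : X.Modules) [Coh.IsQCoh F] (h2 : Subsingleton (Coh.HH X F 2))
    (c : ∀ i j k, Γ(F, W i ⊓ W j ⊓ W k))
    (hc : ∀ i j k l (V : X.Opens) (hi : V ≤ W i) (hj : V ≤ W j) (hk : V ≤ W k) (hl : V ≤ W l),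
      resM F (le_inf (le_inf hj hk) hl) (c j k l) - resM F (le_inf (le_inf hi hk) hl) (c i k l) +
        resM F (le_inf (le_inf hi hj) hl) (c i j l) - resM F (le_inf (le_inf hi hj) hk) (c i j k) = 0) :
    ∃ e : ∀ i j, Γ(F, W i ⊓ W j), ∀ i j k (V : X.Opens) (hi : V ≤ W i) (hj : V ≤ W j) (hk : V ≤ W k),
      resM F (le_inf (le_inf hi hj) hk) (c i j k) =
        resM F (le_inf hj hk) (e j k) - resM F (le_inf hi hk) (e i k) + resM F (le_inf hi hj) (e i j) := by
  let : X.Over (Spec (CommRingCat.of Γ(X, ⊤))) := ⟨X.toSpecΓ⟩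
  let A : Type u := Γ(X, ⊤)
  let le : ∀ {p : ℕ} (a : Fin (p + 1) → ι) (q : Fin (p + 1)), cinter W a ≤ W (a q) :=
    fun a q => iInf_le (fun k => W (a k)) q
  let x : ∀ a : Fin 3 → ι, Γ(F, cinter W a) := fun a =>
    resM F (le_inf (le_inf (le a 0) (le a 1)) (le a 2)) (c (a 0) (a 1) (a 2))
  have hdx : cxD A W F 2 x = 0 := by
    funext a
    show ∑ j : Fin 4, (-1 : ℤ) ^ (j : ℕ) • resM F (cinter_face W a j) (x (a ∘ j.succAbove)) = 0
    simp only [x, Fin.sum_univ_four, resM_resM]
    norm_num
    have h := hc (a 0) (a 1) (a 2) (a 3) (cinter W a) (le a 0) (le a 1) (le a 2) (le a 3)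
    rw [← h]
    simp only [Function.comp_apply, sub_eq_add_neg]
    rfl
  have hsub : Subsingleton ((cxA A W F).homology 2) :=
    (hhCech A W hcov (isAffineOpen_cinter W hW) F 2).toEquiv.symm.subsingleton
  have hex : ((cxA A W F).sc' 1 2 3).Exact := by
    rw [← HomologicalComplex.exactAt_iff' _ 1 2 3 (by simp) (by simp),
      HomologicalComplex.exactAt_iff_isZero_homology]
    exact ModuleCat.isZero_of_subsingleton _
  have h' := (ShortComplex.moduleCat_exact_iff _).1 hex x (by
    show ((cxA A W F).d 2 3) x = 0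
    rw [cxA_d]
    exact hdx)
  obtain ⟨y, hy⟩ := h'
  change ((cxA A W F).d 1 2) y = x at hy
  rw [cxA_d] at hy
  change cxD A W F 1 y = x at hy
  have hy' : ∀ (a b : Fin 2 → ι) (_ : a = b) (V : X.Opens) (h : V ≤ cinter W a) (h' : V ≤ cinter W b),
      resM F h (y a) = resM F h' (y b) := by
    rintro a b rfl V h h'
    rfl
  have le2 : ∀ (i j : ι), W i ⊓ W j ≤ cinter W ![i, j] := fun i j => le_iInf fun k => by
    fin_cases k
    exacts [inf_le_left, inf_le_right]
  refine ⟨fun i j => resM F (le2 i j) (y ![i, j]), fun i j k V hi hj hk => ?_⟩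
  have hV : V ≤ cinter W ![i, j, k] := le_iInf fun q => by
    fin_cases q
    exacts [hi, hj, hk]
  have h := congrArg (resM F hV) (congrFun hy ![i, j, k])
  change resM F hV (∑ q : Fin 3, (-1 : ℤ) ^ (q : ℕ) • resM F (cinter_face W ![i, j, k] q)
    (y (![i, j, k] ∘ q.succAbove))) = resM F hV (x ![i, j, k]) at h
  simp only [x, Fin.sum_univ_three, resM_resM, map_add, map_zsmul] at h
  norm_num at h
  simp only [resM_resM]
  rw [hy' ![j, k] (![i, j, k] ∘ (0 : Fin 3).succAbove) (funext fun q => by fin_cases q <;> rfl) V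
      ((le_inf hj hk).trans (le2 j k)) (hV.trans (cinter_face W _ 0)),
    hy' ![i, k] (![i, j, k] ∘ (1 : Fin 3).succAbove) (funext fun q => by fin_cases q <;> rfl) V
      ((le_inf hi hk).trans (le2 i k)) (hV.trans (cinter_face W _ 1)),
    hy' ![i, j] (![i, j, k] ∘ (2 : Fin 3).succAbove) (funext fun q => by fin_cases q <;> rfl) V
      ((le_inf hi hj).trans (le2 i j)) (hV.trans (cinter_face W _ 2))]
  refine h.symm.trans ?_
  simp only [sub_eq_add_neg]

end Groth.Agent.PicDef15
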