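import Groth.Agent.PicDef15.SqZero
import Mathlib.RingTheory.Flat.EquationalCriterion
import Mathlib.AlgebraicGeometry.Morphisms.Flat

/-!
# The ideal of a small step in a flat family

`Y` flat over `Spec R`, `J ⊆ M` ideals with `M · J = 0`, `J` free over `R ⧸ M`: the ideal `J O_Y` is a direct
sum of copies of `O_Y ⧸ M O_Y`.
-/

set_option autoImplicit false
set_option backward.isDefEq.respectTransparency.types false

universe u

open CategoryTheory CategoryTheory.Limits AlgebraicGeometry Opposite TopologicalSpace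
open Groth.Agent.Coherent Groth.Agent.PicLib

noncomputable section

namespace Groth.Agent.PicDef15

attribute [local instance] HasFiniteBiproducts.of_hasFiniteProducts

variable {R : Type u} [CommRing R] {Y : Scheme.{u}} (g : Y ⟶ Spec (CommRingCat.of R))

/-- The base ring in the functions of an open. -/
def phi (V : Y.Opens) : R →+* Γ(Y, V) :=
  ((Scheme.ΓSpecIso (CommRingCat.of R)).inv ≫ g.appLE ⊤ V le_top).hom

theorem res_phi {U V : Y.Opens} (h : V ≤ U) (a : R) : PicLib.res h (phi g U a) = phi g V a := by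
  show ((Scheme.ΓSpecIso (CommRingCat.of R)).inv ≫ g.appLE ⊤ U le_top ≫ Y.presheaf.map (homOfLE h).op).hom a = _
  rw [Scheme.Hom.appLE_map]
  rfl

theorem flat_phi [Flat g] {V : Y.Opens} (hV : IsAffineOpen V) : (phi g V).Flat := by
  have h1 := Scheme.Hom.flat_appLE g (isAffineOpen_top _) hV (le_top : V ≤ g ⁻¹ᵁ ⊤)
  have h2 : (Scheme.ΓSpecIso (CommRingCat.of R)).inv.hom.Flat :=
    RingHom.Flat.of_bijective (ConcreteCategory.bijective_of_isIso (Scheme.ΓSpecIso (CommRingCat.of R)).inv)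
  unfold phi
  rw [CommRingCat.hom_comp]
  exact h2.comp h1

theorem mem_map_of_flat {B : Type u} [CommRing B] (φ : R →+* B) (hφ : φ.Flat) {M : Ideal R} {r : ℕ}
    (a : Fin r → R) (hfree : ∀ c : Fin r → R, ∑ k, a k * c k = 0 → ∀ k, c k ∈ M) (x : Fin r → B)
    (h : ∑ k, x k * φ (a k) = 0) (k : Fin r) : x k ∈ M.map φ := by
  algebraize [φ]
  have h' : ∑ i, a i • x i = 0 := by
    rw [← h]
    exact Finset.sum_congr rfl fun i _ => (Algebra.smul_def _ _).trans (mul_comm _ _)
  obtain ⟨n, c, y, hx, hc⟩ := Module.Flat.isTrivialRelation_of_sum_smul_eq_zero (R := R) (M := B) (f := a) (x := x) h'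
  rw [hx k]
  refine Ideal.sum_mem _ fun j _ => ?_
  rw [Algebra.smul_def]
  exact Ideal.mul_mem_right _ _ (Ideal.mem_map_of_mem φ (hfree (fun i => c i j) (hc j) k))

variable {M J : Ideal R} {I I₀ : Y.IdealSheafData}

theorem sq_eq_bot (hI : ∀ V : Y.affineOpens, I.ideal V = J.map (phi g V.1)) (hJ : J * J = ⊥) : I ^ 2 = ⊥ := by
  refine Scheme.IdealSheafData.ext (funext fun V => ?_)
  rw [Scheme.IdealSheafData.ideal_pow, Scheme.IdealSheafData.ideal_bot, Pi.pow_apply, hI, ← Ideal.map_pow,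
    pow_two, hJ, Ideal.map_bot]
  rfl

theorem val_smul (U : Y.Opens) (f : Γ(Y, U)) (σ : Γ(ClSub.idealMod I, U)) :
    val I U (f • σ) = f * val I U σ :=
  Scheme.Modules.Hom.app_smul (ClSub.idealModι I) f σ

theorem app_phi_eq_zero (hI : ∀ V : Y.affineOpens, I.ideal V = J.map (phi g V.1)) {a : R} (ha : a ∈ J) :
    I.subschemeι.app ⊤ (phi g ⊤ a) = 0 := by
  refine TopCat.Sheaf.eq_of_locally_eq' I.subscheme.sheaf
    (fun V : Y.affineOpens => I.subschemeι ⁻¹ᵁ V.1) _ (fun V => homOfLE le_top) (fun y _ => ?_) _ _ fun V => ?_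
  · obtain ⟨V, hV, hyV, -⟩ := exists_isAffineOpen_mem_and_subset (x := I.subschemeι y) (U := (⊤ : Y.Opens)) trivial
    exact Opens.mem_iSup.2 ⟨⟨V, hV⟩, hyV⟩
  · show PicLib.res _ (I.subschemeι.app ⊤ (phi g ⊤ a)) = PicLib.res _ 0
    rw [map_zero, ← app_res I le_top, res_phi, ← RingHom.mem_ker, Scheme.IdealSheafData.ker_subschemeι_app, hI]
    exact Ideal.mem_map_of_mem _ ha

theorem epi_of_affine {A B : Y.Modules} (f : A ⟶ B)
    (h : ∀ U : Y.Opens, IsAffineOpen U → Function.Surjective (f.app U)) : Epi f :=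
  epi_of_locally_surjective f fun W a y hy => by
    obtain ⟨U, hU, hyU, hUW⟩ := exists_isAffineOpen_mem_and_subset (x := y) (U := W) hy
    exact ⟨U, fun z hz => hUW hz, hyU, h U hU _⟩

/-- Evaluation of morphisms of modules at a section. -/
def evalHom {A B : Y.Modules} (V : Y.Opens) (x : Γ(A, V)) : (A ⟶ B) →+ Γ(B, V) :=
  AddMonoidHom.mk' (fun f => f.app V x) fun _ _ => rfl

theorem app_biproduct_total {r : ℕ} (N : Fin r → Y.Modules) (V : Y.Opens) (x : Γ(⨁ N, V)) :
    ∑ k, (biproduct.ι N k).app V ((biproduct.π N k).app V x) = x := by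
  have h := congrArg (evalHom V x) (biproduct.total (f := N))
  rw [map_sum] at h
  exact h

theorem app_π_sum_ι {r : ℕ} (N : Fin r → Y.Modules) (V : Y.Opens) (c : ∀ k, Γ(N k, V)) (l : Fin r) :
    (biproduct.π N l).app V (∑ k, (biproduct.ι N k).app V (c k)) = c l := by
  rw [map_sum, Finset.sum_eq_single l]
  · exact congrArg (fun f => evalHom V (c l) f) (biproduct.ι_π_self N l)
  · exact fun k _ hk => congrArg (fun f => evalHom V (c k) f) (biproduct.ι_π_ne N hk)
  · simp

theorem hom_eq_zero_of_affine {A B : Y.Modules} (f : A ⟶ B)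
    (h : ∀ V : Y.Opens, IsAffineOpen V → ∀ x, f.app V x = 0) : f = 0 := by
  refine Scheme.Modules.hom_ext _ _ fun U => ConcreteCategory.hom_ext _ _ fun x => ?_
  refine TopCat.Sheaf.eq_of_locally_eq' (⟨B.presheaf, B.isSheaf⟩ : TopCat.Sheaf Ab Y)
    (fun p : {V : Y.affineOpens // V.1 ≤ U} => p.1.1) U (fun p => homOfLE p.2) (fun y hy => ?_) _ _ fun p => ?_
  · obtain ⟨V, hV, hyV, hVU⟩ := exists_isAffineOpen_mem_and_subset hy
    exact Opens.mem_iSup.2 ⟨⟨⟨V, hV⟩, hVU⟩, hyV⟩
  · show resM B p.2 (f.app U x) = resM B p.2 0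
    rw [← app_resM, h _ p.1.2, map_zero]

/-- Two epimorphisms with the same kernel on affine sections have isomorphic targets. -/
theorem nonempty_iso_of_kernels {A B C : Y.Modules} (p : A ⟶ B) (q : A ⟶ C) [Epi p] [Epi q]
    (h : ∀ V : Y.Opens, IsAffineOpen V → ∀ x, p.app V x = 0 ↔ q.app V x = 0) : Nonempty (B ≅ C) := by
  have hp : kernel.ι p ≫ q = 0 := hom_eq_zero_of_affine _ fun V hV x =>
    (h V hV ((kernel.ι p).app V x)).1 (kernel_ι_app_zero p V x)
  have hq : kernel.ι q ≫ p = 0 := hom_eq_zero_of_affine _ fun V hV x =>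
    (h V hV ((kernel.ι q).app V x)).2 (kernel_ι_app_zero q V x)
  let hcp := Abelian.epiIsCokernelOfKernel _ (kernelIsKernel p)
  let hcq := Abelian.epiIsCokernelOfKernel _ (kernelIsKernel q)
  let u : B ⟶ C := hcp.desc (CokernelCofork.ofπ q hp)
  let v : C ⟶ B := hcq.desc (CokernelCofork.ofπ p hq)
  have hu : p ≫ u = q := hcp.fac (CokernelCofork.ofπ q hp) WalkingParallelPair.one
  have hv : q ≫ v = p := hcq.fac (CokernelCofork.ofπ p hq) WalkingParallelPair.one
  exact ⟨⟨u, v, by rw [← cancel_epi p, ← Category.assoc, hu, hv, Category.comp_id],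
    by rw [← cancel_epi q, ← Category.assoc, hv, hu, Category.comp_id]⟩⟩

theorem subsingleton_HH_biproduct {r : ℕ} (N : Fin r → Y.Modules) (n : ℕ)
    (h : ∀ k, Subsingleton (Coh.HH Y (N k) n)) : Subsingleton (Coh.HH Y (⨁ N) n) := by
  refine subsingleton_of_forall_eq 0 fun x => ?_
  let Φ : ((⨁ N) ⟶ (⨁ N)) →+ Coh.HH Y (⨁ N) n := AddMonoidHom.mk'
    (fun f => Sheaf.H.map ((toAbFunctor Y).map f) n x) fun f f' => by
      rw [Functor.map_add, Sheaf.H.map_add_apply]
  have h1 : Φ (𝟙 _) = x := by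
    show Sheaf.H.map _ n x = x
    rw [CategoryTheory.Functor.map_id, Sheaf.H.map_id_apply]
  rw [← h1, ← biproduct.total (f := N), map_sum]
  refine Finset.sum_eq_zero fun k _ => ?_
  show Sheaf.H.map _ n x = 0
  rw [Functor.map_comp, Sheaf.H.map_comp_apply]
  have := h k
  rw [Subsingleton.elim (Sheaf.H.map ((toAbFunctor Y).map (biproduct.π N k)) n x) 0, map_zero]

variable {Z₀ : Scheme.{u}} (t₀ : Z₀ ⟶ Y) [IsClosedImmersion t₀]

/-- Cohomology of the ideal of a small step. -/
theorem subsingleton_HH_step [Flat g] {r : ℕ} (a : Fin r → R) (haJ : J = Ideal.span (Set.range a))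
    (hMJ : M * J = ⊥) (hfree : ∀ c : Fin r → R, ∑ k, a k * c k = 0 → ∀ k, c k ∈ M)
    (hI : ∀ V : Y.affineOpens, I.ideal V = J.map (phi g V.1))
    (hI₀ : ∀ V : Y.affineOpens, t₀.ker.ideal V = M.map (phi g V.1))
    (n : ℕ) (h : Subsingleton (Coh.HH Z₀ (Coh.structureModule Z₀) n)) :
    Subsingleton (Coh.HH Y (ClSub.idealMod I) n) := by
  have haJ' : ∀ k, a k ∈ J := fun k => haJ ▸ Ideal.subset_span ⟨k, rfl⟩
  choose σ hσ using fun k => exists_val I ⊤ _ (app_phi_eq_zero g hI (haJ' k))
  let O : Fin r → Y.Modules := fun _ => Coh.structureModule Y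
  let P : Fin r → Y.Modules := fun _ => (Scheme.Modules.pushforward t₀).obj (Coh.structureModule Z₀)
  let ψ : (⨁ O) ⟶ ClSub.idealMod I := biproduct.desc fun k => unitDesc (ClSub.idealMod I) (σ k)
  let q : (⨁ O) ⟶ (⨁ P) := biproduct.map fun _ => ClSub.unitToPush t₀
  have hval : ∀ (V : Y.Opens) (x : Γ(⨁ O, V)), val I V (ψ.app V x) =
      ∑ k, (show Γ(Y, V) from (biproduct.π O k).app V x) * phi g V (a k) := by
    intro V x
    conv_lhs => rw [← app_biproduct_total O V x]
    rw [map_sum, map_sum]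
    refine Finset.sum_congr rfl fun k _ => ?_
    have hk : ψ.app V ((biproduct.ι O k).app V ((biproduct.π O k).app V x)) =
        (unitDesc (ClSub.idealMod I) (σ k)).app V ((biproduct.π O k).app V x) :=
      congrArg (fun f => evalHom V ((biproduct.π O k).app V x) f)
        (biproduct.ι_desc (fun k => unitDesc (ClSub.idealMod I) (σ k)) k)
    rw [hk]
    refine Eq.trans (congrArg (val I V) (app_unit (unitDesc (ClSub.idealMod I) (σ k)) _)) ?_
    rw [val_smul, unitVal_unitDesc, val_res, hσ, res_phi]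
  have hq : ∀ (V : Y.Opens) (x : Γ(⨁ O, V)) (k : Fin r), (biproduct.π P k).app V (q.app V x) =
      t₀.app V (show Γ(Y, V) from (biproduct.π O k).app V x) := fun V x k =>
    congrArg (fun f => evalHom V x f) (biproduct.map_π (fun _ => ClSub.unitToPush t₀) k)
  have : Epi ψ := epi_of_affine ψ fun V hV s => by
    have hs : val I V s ∈ J.map (phi g V) := by
      rw [← hI ⟨V, hV⟩, ← Scheme.IdealSheafData.ker_subschemeι_app]
      exact app_val I V s
    rw [haJ, Ideal.map_span, ← Set.range_comp] at hs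
    obtain ⟨c, hc⟩ := Ideal.mem_span_range_iff_exists_fun.1 hs
    refine ⟨∑ k, (biproduct.ι O k).app V (c k), val_injective I V ?_⟩
    rw [hval, ← hc]
    exact Finset.sum_congr rfl fun k _ => by rw [app_π_sum_ι O V c k]; rfl
  have : Epi q := epi_of_affine q fun V hV y => by
    choose c hc using fun k => t₀.app_surjective V hV ((biproduct.π P k).app V y)
    refine ⟨∑ k, (biproduct.ι O k).app V (c k), ?_⟩
    rw [← app_biproduct_total P V (q.app V _), ← app_biproduct_total P V y]
    refine Finset.sum_congr rfl fun k _ => ?_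
    rw [hq, app_π_sum_ι O V c k, hc]
  obtain ⟨e⟩ := nonempty_iso_of_kernels ψ q fun V hV x => by
    have hker : ∀ b : Γ(Y, V), t₀.app V b = 0 ↔ b ∈ M.map (phi g V) := fun b => by
      rw [← hI₀ ⟨V, hV⟩, Scheme.Hom.ker_apply, RingHom.mem_ker]
    constructor
    · intro h0
      rw [← app_biproduct_total P V (q.app V x)]
      refine Finset.sum_eq_zero fun k _ => ?_
      have h1 : ∑ k, (show Γ(Y, V) from (biproduct.π O k).app V x) * phi g V (a k) = 0 := by
        rw [← hval, h0, map_zero]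
      rw [hq, (hker _).2 (mem_map_of_flat (phi g V) (flat_phi g hV) a hfree _ h1 k)]
      exact map_zero _
    · intro h0
      refine val_injective I V ?_
      rw [hval, map_zero]
      refine Finset.sum_eq_zero fun k _ => ?_
      have h1 : (show Γ(Y, V) from (biproduct.π O k).app V x) ∈ M.map (phi g V) := by
        refine (hker _).1 ?_
        rw [← hq, h0]
        exact map_zero _
      have h2 := Ideal.mul_mem_mul h1 (Ideal.mem_map_of_mem (phi g V) (haJ' k))
      rw [← Ideal.map_mul, hMJ, Ideal.map_bot] at h2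
      exact h2
  have hP : Subsingleton (Coh.HH Y (⨁ P) n) := subsingleton_HH_biproduct P n fun _ =>
    haveI : Coh.IsQCoh (Coh.structureModule Z₀) := isQCoh_structureModule
    (HHAffinePushEquiv t₀ (Coh.structureModule Z₀) n).symm.subsingleton
  refine subsingleton_of_forall_eq 0 fun x => ?_
  have e1 : Sheaf.H.map ((toAbFunctor Y).map e.inv) n (Sheaf.H.map ((toAbFunctor Y).map e.hom) n x) = x := by
    rw [← Sheaf.H.map_comp_apply, ← Functor.map_comp, e.hom_inv_id, CategoryTheory.Functor.map_id,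
      Sheaf.H.map_id_apply]
  rw [← e1, Subsingleton.elim (Sheaf.H.map ((toAbFunctor Y).map e.hom) n x) 0, map_zero]

end Groth.Agent.PicDef15
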