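import Groth.Agent.Coherent.ClosedEquiv
import Groth.Agent.Coherent.QcohOps
import Groth.Agent.Coherent.SchemeCoh
import Groth.Agent.Coherent.FinitePres
import Groth.Agent.PicLib.Invertible
import Groth.Agent.AmpleLib.Power
import Groth.Agent.MorProj.OmegaAffine
import Groth.Agent.EGA43.InjFibre.Scheme

/-!
# Square-zero ideals: sections, homeomorphism, cohomology of the ideal
-/

set_option autoImplicit false
set_option backward.isDefEq.respectTransparency.types false

universe u

open CategoryTheory CategoryTheory.Limits AlgebraicGeometry Opposite TopologicalSpace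
open Groth.Agent.Coherent Groth.Agent.PicLib

noncomputable section

namespace Groth.Agent.PicDef15

variable {X : Scheme.{u}} (I : X.IdealSheafData)

/-- A section of the ideal as a function. -/
def val (U : X.Opens) : Γ(ClSub.idealMod I, U) →+ Γ(X, U) :=
  AddMonoidHom.mk' (fun σ => (ClSub.idealModι I).app U σ) fun a b => map_add ((ClSub.idealModι I).app U).hom a b

theorem val_injective (U : X.Opens) : Function.Injective (val I U) :=
  app_injective_of_mono (kernel.ι (ClSub.toSubscheme I)) U

theorem val_res {U V : X.Opens} (h : V ≤ U) (σ : Γ(ClSub.idealMod I, U)) :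
    val I V (resM (ClSub.idealMod I) h σ) = PicLib.res h (val I U σ) :=
  app_resM (ClSub.idealModι I) h σ

theorem app_val (U : X.Opens) (σ : Γ(ClSub.idealMod I, U)) : I.subschemeι.app U (val I U σ) = 0 :=
  kernel_ι_app_zero (ClSub.toSubscheme I) U σ

theorem exists_val (U : X.Opens) (a : Γ(X, U)) (ha : I.subschemeι.app U a = 0) : ∃ σ, val I U σ = a :=
  kernel_sections_exact (ClSub.toSubscheme I) (U := U) a ha

theorem app_res {U V : X.Opens} (h : V ≤ U) (a : Γ(X, U)) :
    I.subschemeι.app V (PicLib.res h a) = PicLib.res (I.subschemeι.preimage_mono h) (I.subschemeι.app U a) :=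
  ConcreteCategory.congr_hom (I.subschemeι.naturality (homOfLE h).op) a

theorem app_eq_zero_res {U V : X.Opens} (h : V ≤ U) {a : Γ(X, U)} (ha : I.subschemeι.app U a = 0) :
    I.subschemeι.app V (PicLib.res h a) = 0 := by rw [app_res, ha]; exact map_zero _

variable (hI : I ^ 2 = ⊥)
include hI

theorem mul_eq_zero_affine (V : X.affineOpens) {a b : Γ(X, V.1)} (ha : I.subschemeι.app V.1 a = 0)
    (hb : I.subschemeι.app V.1 b = 0) : a * b = 0 := by
  rw [← RingHom.mem_ker, Scheme.IdealSheafData.ker_subschemeι_app] at ha hb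
  have h := Ideal.mul_mem_mul ha hb
  rw [← pow_two, ← Pi.pow_apply, ← Scheme.IdealSheafData.ideal_pow, hI, Scheme.IdealSheafData.ideal_bot] at h
  exact h

theorem mul_eq_zero (U : X.Opens) {a b : Γ(X, U)} (ha : I.subschemeι.app U a = 0)
    (hb : I.subschemeι.app U b = 0) : a * b = 0 := by
  refine TopCat.Sheaf.eq_of_locally_eq' X.sheaf
    (fun p : {V : X.affineOpens // V.1 ≤ U} => p.1.1) U (fun p => homOfLE p.2) (fun y hy => ?_) _ _ fun p => ?_
  · obtain ⟨V, hV, hyV, hVU⟩ := exists_isAffineOpen_mem_and_subset hy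
    exact Opens.mem_iSup.2 ⟨⟨⟨V, hV⟩, hVU⟩, hyV⟩
  · show PicLib.res p.2 (a * b) = PicLib.res p.2 0
    rw [map_mul, map_zero]
    exact mul_eq_zero_affine I hI p.1 (app_eq_zero_res I p.2 ha) (app_eq_zero_res I p.2 hb)

theorem support_eq : (I.support : Set X) = Set.univ := by
  have h := Scheme.IdealSheafData.support_pow I 2 two_ne_zero
  rw [hI] at h
  rw [← h]
  simp

theorem surjective_subschemeι : Function.Surjective I.subschemeι := fun x => by
  have h : x ∈ Set.range I.subschemeι := by
    rw [Scheme.IdealSheafData.range_subschemeι, support_eq I hI]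
    trivial
  exact h

theorem exists_preimage_eq (U : I.subscheme.Opens) : ∃ V : X.Opens, I.subschemeι ⁻¹ᵁ V = U := by
  obtain ⟨O, hO, hOU⟩ := I.subschemeι.isClosedEmbedding.isInducing.isOpen_iff.1 U.isOpen
  exact ⟨⟨O, hO⟩, Opens.ext hOU⟩

theorem isUnit_of_app {V : X.Opens} (hV : IsAffineOpen V) (a : Γ(X, V)) (h : IsUnit (I.subschemeι.app V a)) :
    IsUnit a := by
  obtain ⟨b₀, hb₀⟩ := h.exists_right_inv
  obtain ⟨b, hb⟩ := I.subschemeι.app_surjective V hV b₀
  subst hb
  have h0 : I.subschemeι.app V (a * b - 1) = 0 := by rw [map_sub, map_mul, hb₀, map_one, sub_self]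
  have h2 := mul_eq_zero I hI V h0 h0
  exact IsUnit.of_mul_eq_one (b * (2 - a * b)) (by linear_combination -h2)

theorem killed : ClSub.KilledByIdeal I.subschemeι.ker (ClSub.idealMod I) := by
  intro U a ha m
  rw [Scheme.IdealSheafData.ker_subschemeι, ← I.ker_subschemeι_app] at ha
  refine val_injective I U.1 ?_
  refine Eq.trans ?_ (map_zero _).symm
  show (ClSub.idealModι I).app U.1 (a • m) = 0
  refine (Scheme.Modules.Hom.app_smul (ClSub.idealModι I) a m).trans ?_
  exact mul_eq_zero I hI U.1 ha (app_val I U.1 m)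

omit hI in
theorem isQCoh_pullback_idealMod :
    Coh.IsQCoh ((Scheme.Modules.pullback I.subschemeι).obj (ClSub.idealMod I)) :=
  haveI := MorProj.isQCoh_idealMod I
  EGA43.InjFibre.isQCoh_pullback I.subschemeι (ClSub.idealMod I)

/-- Cohomology of the ideal on the thickening and on the subscheme agree. -/
theorem subsingleton_HH_idealMod (n : ℕ)
    (h : Subsingleton (Coh.HH I.subscheme ((Scheme.Modules.pullback I.subschemeι).obj (ClSub.idealMod I)) n)) :
    Subsingleton (Coh.HH X (ClSub.idealMod I) n) := by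
  have := isQCoh_pullback_idealMod I
  let e := clIso I.subschemeι (killed I hI)
  have h1 : Subsingleton (Coh.HH X ((Coh.push I.subschemeι).obj
      ((Scheme.Modules.pullback I.subschemeι).obj (ClSub.idealMod I))) n) :=
    (HHAffinePushEquiv I.subschemeι _ n).symm.subsingleton
  refine subsingleton_of_forall_eq 0 fun x => ?_
  have e1 : Sheaf.H.map ((toAbFunctor X).map e.inv) n (Sheaf.H.map ((toAbFunctor X).map e.hom) n x) = x := by
    rw [← Sheaf.H.map_comp_apply, ← Functor.map_comp, e.hom_inv_id, CategoryTheory.Functor.map_id,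
      Sheaf.H.map_id_apply]
  rw [← e1, Subsingleton.elim (Sheaf.H.map ((toAbFunctor X).map e.hom) n x) 0, map_zero]

end Groth.Agent.PicDef15
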