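import Groth.Agent.PicDef15.Cech
import Groth.Agent.PicDef15.SqZero
import Groth.Agent.PicLib.CocycleGlue
import Groth.Agent.PicLib.PullbackGen

/-!
# Lifting an invertible module along a square-zero thickening
-/

set_option autoImplicit false
set_option backward.isDefEq.respectTransparency.types false

universe u

open CategoryTheory CategoryTheory.Limits AlgebraicGeometry Opposite TopologicalSpace
open Groth.Agent.Coherent Groth.Agent.PicLib Groth.Agent.VarietyLib

noncomputable section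

namespace Groth.Agent.PicDef15

variable {X : Scheme.{u}} (I : X.IdealSheafData) (hI : I ^ 2 = ⊥)
include hI

/-- An affine cover of `X` trivialising a module on the thickened scheme. -/
theorem exists_affine_gens {L₀ : I.subscheme.Modules} (hL₀ : PicF.IsInvertible L₀) :
    ∃ (W : X → X.Opens) (s : ∀ x, Γ(L₀, I.subschemeι ⁻¹ᵁ W x)), (∀ x, x ∈ W x) ∧ (∀ x, IsAffineOpen (W x)) ∧
      ∀ x, IsGen L₀ (I.subschemeι ⁻¹ᵁ W x) (s x) := by
  obtain ⟨U, g, hmem, hg⟩ := exists_cover hL₀
  have h : ∀ x : X, ∃ W : X.Opens, x ∈ W ∧ IsAffineOpen W ∧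
      ∃ s : Γ(L₀, I.subschemeι ⁻¹ᵁ W), IsGen L₀ (I.subschemeι ⁻¹ᵁ W) s := by
    intro x
    obtain ⟨z, rfl⟩ := surjective_subschemeι I hI x
    obtain ⟨V, hV⟩ := exists_preimage_eq I hI (U z)
    have hzV : z ∈ I.subschemeι ⁻¹ᵁ V := hV.ge (hmem z)
    obtain ⟨W, hW, hzW, hWV⟩ := exists_isAffineOpen_mem_and_subset (U := V) hzV
    exact ⟨W, hzW, hW, _, (hg z).restrict ((I.subschemeι.preimage_mono hWV).trans hV.le)⟩
  choose W hmem hW s hs using h
  exact ⟨W, s, hmem, hW, hs⟩

/-- Transition units on the subscheme lift to a cocycle on `X` when the obstruction vanishes. -/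
theorem exists_lift_cocycle [X.IsSeparated] {ι : Type u} (W : ι → X.Opens) (hcov : ⨆ i, W i = ⊤)
    (hW : ∀ i, IsAffineOpen (W i))
    (h2 : Subsingleton (Coh.HH X (ClSub.idealMod I) 2))
    (η₀ : ∀ i j, Γ(I.subscheme, I.subschemeι ⁻¹ᵁ (W i ⊓ W j))) (hu : ∀ i j, IsUnit (η₀ i j))
    (hη₀ : ∀ i j k (V : X.Opens) (hi : V ≤ W i) (hj : V ≤ W j) (hk : V ≤ W k),
      PicLib.res (I.subschemeι.preimage_mono (le_inf hi hk)) (η₀ i k) =
        PicLib.res (I.subschemeι.preimage_mono (le_inf hi hj)) (η₀ i j) *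
          PicLib.res (I.subschemeι.preimage_mono (le_inf hj hk)) (η₀ j k)) :
    ∃ η : ∀ i j, (Γ(X, W i ⊓ W j))ˣ, (∀ i j, I.subschemeι.app _ (η i j : Γ(X, W i ⊓ W j)) = η₀ i j) ∧
      ∀ i j k (V : X.Opens) (hi : V ≤ W i) (hj : V ≤ W j) (hk : V ≤ W k),
        PicLib.res (le_inf hi hk) (η i k : Γ(X, W i ⊓ W k)) =
          PicLib.res (le_inf hi hj) (η i j : Γ(X, W i ⊓ W j)) *
            PicLib.res (le_inf hj hk) (η j k : Γ(X, W j ⊓ W k)) := by
  have hW2 : ∀ i j, IsAffineOpen (W i ⊓ W j) := fun i j => (hW i).inf (hW j)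
  choose η hη using fun i j => I.subschemeι.app_surjective _ (hW2 i j) (η₀ i j)
  have hηu : ∀ i j, IsUnit (η i j) := fun i j => isUnit_of_app I hI (hW2 i j) _ ((hη i j).symm ▸ hu i j)
  let E : ∀ i j (V : X.Opens), V ≤ W i → V ≤ W j → Γ(X, V) := fun i j V hi hj => PicLib.res (le_inf hi hj) (η i j)
  have hEu : ∀ i j V hi hj, IsUnit (E i j V hi hj) := fun i j V hi hj => (hηu i j).map _
  have hE : ∀ i j (V : X.Opens) (hi : V ≤ W i) (hj : V ≤ W j), I.subschemeι.app V (E i j V hi hj) =
      PicLib.res (I.subschemeι.preimage_mono (le_inf hi hj)) (η₀ i j) := fun i j V hi hj => by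
    rw [app_res, hη]
  let v : ∀ i j k, Γ(X, W i ⊓ W j ⊓ W k) := fun i j k =>
    ((hEu i k _ (inf_le_left.trans inf_le_left) inf_le_right).unit⁻¹ : (Γ(X, W i ⊓ W j ⊓ W k))ˣ)
  have hv : ∀ i j k, E i k _ (inf_le_left.trans inf_le_left) inf_le_right * v i j k = 1 := fun i j k =>
    IsUnit.mul_val_inv _
  have h0 : ∀ i j k, I.subschemeι.app (W i ⊓ W j ⊓ W k)
      (E i j _ (inf_le_left.trans inf_le_left) (inf_le_left.trans inf_le_right) *
        E j k _ (inf_le_left.trans inf_le_right) inf_le_right * v i j k - 1) = 0 := fun i j k => by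
    rw [map_sub, map_mul, map_mul, hE i j _ (inf_le_left.trans inf_le_left) (inf_le_left.trans inf_le_right),
      hE j k _ (inf_le_left.trans inf_le_right) inf_le_right,
      ← hη₀ i j k _ (inf_le_left.trans inf_le_left) (inf_le_left.trans inf_le_right) inf_le_right,
      ← hE i k _ (inf_le_left.trans inf_le_left) inf_le_right, ← map_mul, hv i j k, sub_self]
  choose c hc using fun i j k => exists_val I _ _ (h0 i j k)
  let A : ∀ i j k (V : X.Opens), V ≤ W i → V ≤ W j → V ≤ W k → Γ(X, V) := fun i j k V hi hj hk =>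
    PicLib.res (le_inf (le_inf hi hj) hk) (val I _ (c i j k))
  have hA0 : ∀ i j k (V : X.Opens) hi hj hk, I.subschemeι.app V (A i j k V hi hj hk) = 0 :=
    fun i j k V hi hj hk => app_eq_zero_res I _ (app_val I _ _)
  have hA : ∀ i j k (V : X.Opens) (hi : V ≤ W i) (hj : V ≤ W j) (hk : V ≤ W k),
      E i j V hi hj * E j k V hj hk = (1 + A i j k V hi hj hk) * E i k V hi hk := by
    intro i j k V hi hj hk
    have h : val I _ (c i j k) * E i k _ (inf_le_left.trans inf_le_left) inf_le_right =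
        E i j _ (inf_le_left.trans inf_le_left) (inf_le_left.trans inf_le_right) *
          E j k _ (inf_le_left.trans inf_le_right) inf_le_right -
          E i k _ (inf_le_left.trans inf_le_left) inf_le_right := by
      rw [hc]
      linear_combination (E i j (W i ⊓ W j ⊓ W k) (inf_le_left.trans inf_le_left) (inf_le_left.trans inf_le_right) *
        E j k _ (inf_le_left.trans inf_le_right) inf_le_right) * hv i j k
    have h' := congrArg (PicLib.res (le_inf (le_inf hi hj) hk)) h
    simp only [E, map_sub, map_mul, PicLib.res_res] at h'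
    simp only [E, A]
    linear_combination -h'
  have hz : ∀ {V : X.Opens} {a b : Γ(X, V)}, I.subschemeι.app V a = 0 → I.subschemeι.app V b = 0 → a * b = 0 :=
    fun ha hb => mul_eq_zero I hI _ ha hb
  haveI := MorProj.isQCoh_idealMod I
  obtain ⟨e, he⟩ := exists_coboundary_two W hcov hW (ClSub.idealMod I) h2 c
    (fun i j k l V hi hj hk hl => by
      refine val_injective I V ?_
      simp only [map_add, map_sub, map_zero, val_res]
      show A j k l V hj hk hl - A i k l V hi hk hl + A i j l V hi hj hl - A i j k V hi hj hk = 0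
      refine (hEu i l V hi hl).mul_left_eq_zero.1 ?_
      have h1 := hA i j k V hi hj hk
      have h2' := hA i k l V hi hk hl
      have h3 := hA j k l V hj hk hl
      have h4 := hA i j l V hi hj hl
      have z1 := hz (hA0 i j k V hi hj hk) (hA0 i k l V hi hk hl)
      have z2 := hz (hA0 j k l V hj hk hl) (hA0 i j l V hi hj hl)
      linear_combination (E k l V hk hl) * h1 + (1 + A i j k V hi hj hk) * h2'
        - (E i j V hi hj) * h3 - (1 + A j k l V hj hk hl) * h4 + (E i l V hi hl) * z1 - (E i l V hi hl) * z2)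
  let η' : ∀ i j, Γ(X, W i ⊓ W j) := fun i j => η i j * (1 - val I _ (e i j))
  have hη' : ∀ i j, I.subschemeι.app _ (η' i j) = η₀ i j := fun i j => by
    rw [map_mul, map_sub, app_val, sub_zero, map_one, mul_one, hη]
  refine ⟨fun i j => (isUnit_of_app I hI (hW2 i j) (η' i j) ((hη' i j).symm ▸ hu i j)).unit, hη',
    fun i j k V hi hj hk => ?_⟩
  simp only [IsUnit.unit_spec, η', map_mul, map_sub, map_one]
  have h1 := hA i j k V hi hj hk
  have h2' : A i j k V hi hj hk = PicLib.res (le_inf hj hk) (val I _ (e j k)) -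
      PicLib.res (le_inf hi hk) (val I _ (e i k)) + PicLib.res (le_inf hi hj) (val I _ (e i j)) := by
    have := congrArg (val I V) (he i j k V hi hj hk)
    simpa only [map_add, map_sub, val_res] using this
  have zi := app_eq_zero_res I (le_inf hi hj) (app_val I _ (e i j))
  have zj := app_eq_zero_res I (le_inf hj hk) (app_val I _ (e j k))
  have z1 := hz (hA0 i j k V hi hj hk) zi
  have z2 := hz (hA0 i j k V hi hj hk) zj
  have z3 := hz zi zj
  linear_combination -(1 - PicLib.res (le_inf hi hj) (val I _ (e i j))) *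
      (1 - PicLib.res (le_inf hj hk) (val I _ (e j k))) * h1
    - (E i k V hi hk) * h2' + (E i k V hi hk) * (z1 + z2)
    - (E i k V hi hk) * (1 + A i j k V hi hj hk) * z3

/-- An invertible module lifts along a square-zero thickening when `H²` of the ideal vanishes. -/
theorem exists_invertible_lift [X.IsSeparated]
    (h2 : Subsingleton (Coh.HH X (ClSub.idealMod I) 2))
    {L₀ : I.subscheme.Modules} (hL₀ : PicF.IsInvertible L₀) :
    ∃ L : X.Modules, PicF.IsInvertible L ∧
      Nonempty ((Scheme.Modules.pullback I.subschemeι).obj L ≅ L₀) := by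
  obtain ⟨W, s₀, hmem, hW, hs⟩ := exists_affine_gens I hI hL₀
  have hcov : ⨆ i, W i = ⊤ := top_le_iff.1 fun x _ => Opens.mem_iSup.2 ⟨x, hmem x⟩
  let η₀ : ∀ i j, Γ(I.subscheme, I.subschemeι ⁻¹ᵁ (W i ⊓ W j)) := fun i j =>
    (hs j).coef (I.subschemeι.preimage_mono inf_le_right)
      (resM L₀ (I.subschemeι.preimage_mono inf_le_left) (s₀ i))
  have hE0 : ∀ i j (V : I.subscheme.Opens) (h : V ≤ I.subschemeι ⁻¹ᵁ (W i ⊓ W j)),
      resM L₀ (h.trans (I.subschemeι.preimage_mono inf_le_left)) (s₀ i) =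
        PicLib.res h (η₀ i j) • resM L₀ (h.trans (I.subschemeι.preimage_mono inf_le_right)) (s₀ j) := by
    intro i j V h
    have := congrArg (resM L₀ h) ((hs j).coef_spec (I.subschemeι.preimage_mono inf_le_right)
      (resM L₀ (I.subschemeι.preimage_mono (inf_le_left : W i ⊓ W j ≤ W i)) (s₀ i)))
    rw [resM_smul, resM_resM, resM_resM] at this
    exact this.symm
  have hu : ∀ i j, IsUnit (η₀ i j) := fun i j => by
    have h := ((hs j).restrict (I.subschemeι.preimage_mono (inf_le_right : W i ⊓ W j ≤ W j))).isUnit_coef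
      ((hs i).restrict (I.subschemeι.preimage_mono (inf_le_left : W i ⊓ W j ≤ W i)))
    have he := hE0 i j _ le_rfl
    rwa [IsGen.coef_eq _ le_rfl (r := η₀ i j)
      (by rw [resM_resM]; exact ((hs j).coef_spec _ _))] at h
  obtain ⟨η, hη, hco⟩ := exists_lift_cocycle I hI W hcov hW h2 η₀ hu (fun i j k V hi hj hk => by
    refine (hs k _ (I.subschemeι.preimage_mono hk)).1 ?_
    show _ • _ = _ • _
    rw [← hE0 i k, mul_smul, ← hE0 j k, ← hE0 i j])
  obtain ⟨L, s, hL, hgen, hsη⟩ := CocycleGlue.exists_invertible W η (fun x i j k => by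
    have hx : x ∈ W i.1 ⊓ W j.1 ⊓ W k.1 := ⟨⟨i.2, j.2⟩, k.2⟩
    have hi : W i.1 ⊓ W j.1 ⊓ W k.1 ≤ W i.1 := inf_le_left.trans inf_le_left
    have hj : W i.1 ⊓ W j.1 ⊓ W k.1 ≤ W j.1 := inf_le_left.trans inf_le_right
    have hk : W i.1 ⊓ W j.1 ⊓ W k.1 ≤ W k.1 := inf_le_right
    show X.presheaf.germ _ x _ _ = X.presheaf.germ _ x _ _ * X.presheaf.germ _ x _ _
    rw [← StarGlue.germ_resO (le_inf hi hk) hx, ← StarGlue.germ_resO (le_inf hi hj) hx,
      ← StarGlue.germ_resO (le_inf hj hk) hx, ← map_mul]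
    exact congrArg _ (hco _ _ _ _ hi hj hk)) hcov
  refine ⟨L, hL, ?_⟩
  let P := (Scheme.Modules.pullback I.subschemeι).obj L
  let t : ∀ i, Γ(P, I.subschemeι ⁻¹ᵁ W i) := fun i => pullSec I.subschemeι (s i)
  have ht : ∀ i, IsGen P _ (t i) := fun i => isGen_pullSec I.subschemeι (hgen i) hL
  have hcov' : ⨆ i, I.subschemeι ⁻¹ᵁ W i = ⊤ := top_le_iff.1 fun z _ => Opens.mem_iSup.2 ⟨_, hmem (I.subschemeι z)⟩
  have htη : ∀ i j, resM P (I.subschemeι.preimage_mono inf_le_left) (t i) =
      η₀ i j • resM P (I.subschemeι.preimage_mono (inf_le_right : W i ⊓ W j ≤ W j)) (t j) := fun i j => by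
    refine (resM_pullSec I.subschemeι inf_le_left (s i)).trans ?_
    rw [hsη i j, pullSec_smul, hη]
    exact congrArg _ (resM_pullSec I.subschemeι inf_le_right (s j)).symm
  obtain ⟨φ, hφ⟩ := exists_hom_of_gen (fun i => I.subschemeι ⁻¹ᵁ W i) hcov' s₀ hs t
    (fun i j V hi hj c hc => by
      have hV : V ≤ I.subschemeι ⁻¹ᵁ (W i ⊓ W j) := fun z hz => ⟨hi hz, hj hz⟩
      have hc' : PicLib.res hV (η₀ i j) = c := (hs j V hj).1 ((hE0 i j V hV).symm.trans hc)
      have h := congrArg (resM P hV) (htη i j)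
      rw [resM_smul, resM_resM, resM_resM, hc'] at h
      exact h)
  have : IsIso φ := isIso_of_gens φ _ hcov' s₀ hs (fun i => by rw [hφ i]; exact ht i)
  exact ⟨(asIso φ).symm⟩

end Groth.Agent.PicDef15
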