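import Groth.Agent.PicDef15.CoboundaryOne
import Groth.Agent.PicDef15.SqZero
import Groth.Agent.PicLib.PullbackGen

/-!
# Uniqueness of lifts of invertible modules along a square-zero thickening
-/

set_option autoImplicit false
set_option backward.isDefEq.respectTransparency.types false

universe u

open CategoryTheory CategoryTheory.Limits AlgebraicGeometry Opposite TopologicalSpace
open Groth.Agent.Coherent Groth.Agent.PicLib

noncomputable section

namespace Groth.Agent.PicDef15

variable {X : Scheme.{u}} (I : X.IdealSheafData) (hI : I ^ 2 = ⊥)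
include hI

/-- Two invertible modules that agree on the subscheme are isomorphic when `H¹` of the ideal vanishes. -/
theorem nonempty_iso_of_pullback_iso (h1 : Subsingleton (Coh.HH X (ClSub.idealMod I) 1))
    {L L' : X.Modules} (hL : PicF.IsInvertible L) (hL' : PicF.IsInvertible L')
    (e : (Scheme.Modules.pullback I.subschemeι).obj L ≅ (Scheme.Modules.pullback I.subschemeι).obj L') :
    Nonempty (L ≅ L') := by
  let P := (Scheme.Modules.pullback I.subschemeι).obj L
  let P' := (Scheme.Modules.pullback I.subschemeι).obj L'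
  -- compatible generators on an affine cover
  have hloc : ∀ x : X, ∃ W : X.Opens, x ∈ W ∧ ∃ (s : Γ(L, W)) (t : Γ(L', W)), IsGen L W s ∧ IsGen L' W t ∧
      e.hom.app (I.subschemeι ⁻¹ᵁ W) (pullSec I.subschemeι s) = pullSec I.subschemeι t := by
    intro x
    obtain ⟨U, hxU, s, hs⟩ := exists_isGen hL x
    obtain ⟨U', hxU', t, ht⟩ := exists_isGen hL' x
    obtain ⟨W, hW, hxW, hWU⟩ := exists_isAffineOpen_mem_and_subset (U := U ⊓ U') (x := x) ⟨hxU, hxU'⟩
    have hs' := hs.restrict (hWU.trans inf_le_left : W ≤ U)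
    have ht' := ht.restrict (hWU.trans inf_le_right : W ≤ U')
    refine ⟨W, hxW, ?_⟩
    have hgs := isGen_pullSec I.subschemeι hs' hL
    have hgt := isGen_pullSec I.subschemeι ht' hL'
    have hes : IsGen P' (I.subschemeι ⁻¹ᵁ W) (e.hom.app _ (pullSec I.subschemeι (resM L (hWU.trans inf_le_left : W ≤ U) s))) := by
      intro V hV
      have hb := ConcreteCategory.bijective_of_isIso (e.hom.app V)
      convert hb.comp (hgs V hV) using 1
      funext r
      show r • resM P' hV _ = e.hom.app V (r • _)
      rw [← app_resM, Scheme.Modules.Hom.app_smul]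
    have hu := hgt.isUnit_coef hes
    obtain ⟨u, hu'⟩ := I.subschemeι.app_surjective W hW (hgt.coef le_rfl (e.hom.app _ (pullSec I.subschemeι (resM L (hWU.trans inf_le_left : W ≤ U) s))))
    obtain ⟨w, hw⟩ := isUnit_of_app I hI hW u (hu'.symm ▸ hu)
    refine ⟨_, u • resM L' (hWU.trans inf_le_right : W ≤ U') t, hs', hw ▸ ht'.smul_unit w, ?_⟩
    rw [pullSec_smul, hu']
    conv_lhs => rw [← hgt.coef_spec le_rfl (e.hom.app _ (pullSec I.subschemeι (resM L (hWU.trans inf_le_left : W ≤ U) s))), resM_self]
  choose W hmem s t hs ht hst using hloc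
  have hcov : ⨆ i, W i = ⊤ := top_le_iff.1 fun x _ => Opens.mem_iSup.2 ⟨x, hmem x⟩
  let a : ∀ i j (V : X.Opens), V ≤ W i → V ≤ W j → Γ(X, V) := fun i j V hi hj => (hs j).coef hj (resM L hi (s i))
  let b : ∀ i j (V : X.Opens), V ≤ W i → V ≤ W j → Γ(X, V) := fun i j V hi hj => (ht j).coef hj (resM L' hi (t i))
  have ha : ∀ i j (V : X.Opens) (hi : V ≤ W i) (hj : V ≤ W j), a i j V hi hj • resM L hj (s j) = resM L hi (s i) :=
    fun i j V hi hj => (hs j).coef_spec _ _
  have hb : ∀ i j (V : X.Opens) (hi : V ≤ W i) (hj : V ≤ W j), b i j V hi hj • resM L' hj (t j) = resM L' hi (t i) :=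
    fun i j V hi hj => (ht j).coef_spec _ _
  have hau : ∀ i j (V : X.Opens) (hi : V ≤ W i) (hj : V ≤ W j), IsUnit (a i j V hi hj) := fun i j V hi hj => by
    refine IsUnit.of_mul_eq_one (a j i V hj hi) ((hs j V hj).1 ?_)
    show _ • _ = _ • _
    rw [mul_comm, mul_smul, ha i j, ha j i, one_smul]
  have hares : ∀ i j (V V' : X.Opens) (h : V' ≤ V) (hi : V ≤ W i) (hj : V ≤ W j),
      PicLib.res h (a i j V hi hj) = a i j V' (h.trans hi) (h.trans hj) := fun i j V V' h hi hj => by
    refine ((hs j).coef_res hj h _).symm.trans ?_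
    rw [resM_resM]
  have hbres : ∀ i j (V V' : X.Opens) (h : V' ≤ V) (hi : V ≤ W i) (hj : V ≤ W j),
      PicLib.res h (b i j V hi hj) = b i j V' (h.trans hi) (h.trans hj) := fun i j V V' h hi hj => by
    refine ((ht j).coef_res hj h _).symm.trans ?_
    rw [resM_resM]
  have hres : ∀ i (V : X.Opens) (h : V ≤ W i), e.hom.app _ (pullSec I.subschemeι (resM L h (s i))) =
      pullSec I.subschemeι (resM L' h (t i)) := fun i V h => by
    rw [← resM_pullSec I.subschemeι h (s i), app_resM, hst, resM_pullSec]
  have hab : ∀ i j (V : X.Opens) (hi : V ≤ W i) (hj : V ≤ W j),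
      I.subschemeι.app V (a i j V hi hj) = I.subschemeι.app V (b i j V hi hj) := fun i j V hi hj => by
    refine (isGen_pullSec I.subschemeι (ht j) hL' _ (I.subschemeι.preimage_mono hj)).1 ?_
    show _ • _ = _ • _
    rw [resM_pullSec I.subschemeι hj, ← pullSec_smul I.subschemeι (b i j V hi hj), hb, ← hres i V hi, ← hres j V hj,
      ← ha i j V hi hj, pullSec_smul, Scheme.Modules.Hom.app_smul]
  have h0 : ∀ i j, I.subschemeι.app (W i ⊓ W j)
      (b i j _ inf_le_left inf_le_right * (hau i j _ inf_le_left inf_le_right).unit⁻¹ - 1) = 0 := fun i j => by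
    rw [map_sub, map_mul, ← hab, ← map_mul, IsUnit.mul_val_inv, map_one, sub_self]
  choose c hc using fun i j => exists_val I _ _ (h0 i j)
  let g : ∀ i j (V : X.Opens), V ≤ W i → V ≤ W j → Γ(X, V) := fun i j V hi hj =>
    PicLib.res (le_inf hi hj) (val I _ (c i j))
  have hg0 : ∀ i j (V : X.Opens) hi hj, I.subschemeι.app V (g i j V hi hj) = 0 :=
    fun i j V hi hj => app_eq_zero_res I _ (app_val I _ _)
  have hg : ∀ i j (V : X.Opens) (hi : V ≤ W i) (hj : V ≤ W j),
      b i j V hi hj = a i j V hi hj * (1 + g i j V hi hj) := fun i j V hi hj => by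
    have h : b i j _ inf_le_left inf_le_right =
        a i j _ inf_le_left inf_le_right * (1 + val I _ (c i j)) := by
      rw [hc]
      linear_combination -(b i j (W i ⊓ W j) inf_le_left inf_le_right) * (hau i j _ inf_le_left inf_le_right).mul_val_inv
    have h' := congrArg (PicLib.res (le_inf hi hj)) h
    rw [map_mul, map_add, map_one, hares, hbres] at h'
    exact h'
  obtain ⟨ε, hε⟩ := exists_coboundary_one W hcov (Coh.toAb (ClSub.idealMod I)) h1 c
    fun i j k V hi hj hk => by
      refine val_injective I V ?_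
      show val I V (resM (ClSub.idealMod I) (le_inf hj hk) (c j k) - resM (ClSub.idealMod I) (le_inf hi hk) (c i k) +
        resM (ClSub.idealMod I) (le_inf hi hj) (c i j)) = val I V 0
      simp only [map_add, map_sub, map_zero, val_res]
      show g j k V hj hk - g i k V hi hk + g i j V hi hj = 0
      have hA : a i k V hi hk = a i j V hi hj * a j k V hj hk := (hs k V hk).1 (by
        show _ • _ = _ • _
        rw [ha, mul_smul, ha, ha])
      have hB : b i k V hi hk = b i j V hi hj * b j k V hj hk := (ht k V hk).1 (by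
        show _ • _ = _ • _
        rw [hb, mul_smul, hb, hb])
      rw [hg, hg, hg, hA] at hB
      refine ((hau i j V hi hj).mul (hau j k V hj hk)).mul_right_eq_zero.1 ?_
      linear_combination -hB - (a i j V hi hj * a j k V hj hk) * mul_eq_zero I hI V (hg0 i j V hi hj) (hg0 j k V hj hk)
  let E : ∀ i, Γ(X, W i) := fun i => val I _ (ε i)
  have hE : ∀ i j (V : X.Opens) (hi : V ≤ W i) (hj : V ≤ W j),
      g i j V hi hj = PicLib.res hj (E j) - PicLib.res hi (E i) := fun i j V hi hj => by
    have h : resM (ClSub.idealMod I) (le_inf hi hj) (c i j) =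
        resM (ClSub.idealMod I) hj (ε j) - resM (ClSub.idealMod I) hi (ε i) := hε i j V hi hj
    have := congrArg (val I V) h
    rw [map_sub, val_res, val_res, val_res] at this
    exact this
  let t' : ∀ i, Γ(L', W i) := fun i => (1 + E i) • t i
  have ht' : ∀ i, IsGen L' (W i) (t' i) := fun i => by
    have h : (1 + E i) * (1 - E i) = 1 := by
      linear_combination -(mul_eq_zero I hI _ (app_val I _ (ε i)) (app_val I _ (ε i)))
    exact (ht i).smul_unit (IsUnit.of_mul_eq_one _ h).unit
  obtain ⟨φ, hφ⟩ := exists_hom_of_gen W hcov s hs t' (fun i j V hi hj d hd => by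
    have hd' : a i j V hi hj = d := (hs j V hj).1 ((ha i j V hi hj).trans hd)
    simp only [t', resM_smul, map_add, map_one]
    rw [← hb i j V hi hj, ← hd', ← mul_smul, ← mul_smul]
    refine congrArg (· • _) ?_
    have z := mul_eq_zero I hI V (app_eq_zero_res I hi (app_val I _ (ε i))) (hg0 i j V hi hj)
    linear_combination (1 + PicLib.res hi (E i)) * hg i j V hi hj + a i j V hi hj * hE i j V hi hj
      + a i j V hi hj * z)
  have : IsIso φ := isIso_of_gens φ W hcov s hs (fun i => by rw [hφ i]; exact ht' i)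
  exact ⟨asIso φ⟩

end Groth.Agent.PicDef15
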