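import Groth.Agent.PicDef15.StepCoh
import Groth.Agent.PicDef15.Lift
import Groth.Agent.PicDef15.Unique
import Groth.Agent.FSchLib.Systems
import Mathlib.RingTheory.Nakayama

/-!
# One step of a flat adic system
-/

set_option autoImplicit false
set_option backward.isDefEq.respectTransparency.types false

universe u

open CategoryTheory CategoryTheory.Limits AlgebraicGeometry Opposite TopologicalSpace
open Groth.Agent.Coherent Groth.Agent.PicLib

noncomputable section

namespace Groth.Agent.PicDef15

/-- Minimal generators are independent modulo the maximal ideal. -/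
theorem exists_indep_gens {A : Type u} [CommRing A] [IsLocalRing A] {Q : Ideal A} (hQ : Q.FG) :
    ∃ (r : ℕ) (b : Fin r → A), Q = Ideal.span (Set.range b) ∧
      ∀ c : Fin r → A, ∑ k, b k * c k ∈ IsLocalRing.maximalIdeal A * Q → ∀ k, c k ∈ IsLocalRing.maximalIdeal A := by
  have hex : ∃ r : ℕ, ∃ b : Fin r → A, Ideal.span (Set.range b) = Q := Submodule.fg_iff_exists_fin_generating_family.1 hQ
  classical
  obtain ⟨b, hb⟩ := Nat.find_spec hex
  refine ⟨Nat.find hex, b, hb.symm, fun c hc k => ?_⟩
  by_contra hk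
  obtain ⟨r, hr⟩ : ∃ r, Nat.find hex = r + 1 := Nat.exists_eq_succ_of_ne_zero (fun h0 => (Fin.cast h0 k).elim0)
  have hu : IsUnit (c k) := IsLocalRing.notMem_maximalIdeal.1 hk
  let N : Ideal A := Ideal.span (Set.range fun l : {l : Fin (Nat.find hex) // l ≠ k} => b l.1)
  have hN : Q ≤ N ⊔ IsLocalRing.maximalIdeal A • Q := by
    conv_lhs => rw [← hb]
    refine Ideal.span_le.2 ?_
    rintro _ ⟨l, rfl⟩
    rcases eq_or_ne l k with rfl | hl
    · have h : b l * c l ∈ N ⊔ IsLocalRing.maximalIdeal A • Q := by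
        rw [← Finset.add_sum_erase _ _ (Finset.mem_univ l)] at hc
        have h2 : b l * c l = (b l * c l + ∑ m ∈ Finset.univ.erase l, b m * c m) - ∑ m ∈ Finset.univ.erase l, b m * c m :=
          (add_sub_cancel_right _ _).symm
        rw [h2]
        refine Submodule.sub_mem _ (Ideal.mem_sup_right hc) (Ideal.mem_sup_left (Ideal.sum_mem _ fun m hm => ?_))
        exact Ideal.mul_mem_right _ _ (Ideal.subset_span ⟨⟨m, (Finset.mem_erase.1 hm).1⟩, rfl⟩)
      exact (Ideal.mul_unit_mem_iff_mem _ hu).1 h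
    · exact Ideal.mem_sup_left (Ideal.subset_span ⟨⟨l, hl⟩, rfl⟩)
  have hQN : Q ≤ N := Submodule.le_of_le_smul_of_le_jacobson_bot hQ
    (IsLocalRing.maximalIdeal_le_jacobson _) hN
  have hNQ : N ≤ Q := hb ▸ Ideal.span_mono (Set.range_subset_iff.2 fun l => ⟨l.1, rfl⟩)
  have : Fintype.card {l : Fin (Nat.find hex) // l ≠ k} = r := by simp [Fintype.card_subtype_compl, hr]
  refine Nat.find_min hex (show r < Nat.find hex by omega) ⟨fun i => b ((Fintype.equivFinOfCardEq this).symm i).1, ?_⟩
  refine Eq.trans ?_ (le_antisymm hNQ hQN)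
  exact congrArg Ideal.span ((Fintype.equivFinOfCardEq this).symm.surjective.range_comp
    (fun l : {l : Fin (Nat.find hex) // l ≠ k} => b l.1))

/-- The ideal of the preimage of a closed subscheme of an affine base. -/
theorem ideal_ker_of_isPullback {R S : Type u} [CommRing R] [CommRing S] (ψ : R →+* S) (hψ : Function.Surjective ψ)
    {Y Z : Scheme.{u}} {t : Z ⟶ Y} {f : Z ⟶ Spec (CommRingCat.of S)} {g : Y ⟶ Spec (CommRingCat.of R)}
    (h : IsPullback t f g (Spec.map (CommRingCat.ofHom ψ))) (V : Y.affineOpens) :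
    t.ker.ideal V = (RingHom.ker ψ).map (phi g V.1) := by
  have := IsClosedImmersion.spec_of_surjective (CommRingCat.ofHom ψ) hψ
  rw [FSchLib.ker_of_isPullback h, FSchLib.ideal_comap_eq_map g _ V ⟨⊤, isAffineOpen_top _⟩ le_top,
    FSchLib.ideal_top_ker_specMap, Ideal.map_map]
  rfl

theorem isSeparated_of_thickening {Z Y : Scheme.{u}} (t : Z ⟶ Y) [IsClosedImmersion t] [Surjective t]
    [Z.IsSeparated] : Y.IsSeparated := by
  let g := terminal.from Y
  have : IsSeparated (t ≫ g) := inferInstance
  let m := pullback.map (t ≫ g) (t ≫ g) g g t t (𝟙 _) (by simp) (by simp)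
  have hm : IsClosedImmersion m := MorphismProperty.pullback_map (P := @IsClosedImmersion) ‹_› ‹_›
    (Category.comp_id _) (Category.comp_id _)
  have heq : t ≫ pullback.diagonal g = pullback.diagonal (t ≫ g) ≫ m := by
    apply pullback.hom_ext
    · rw [Category.assoc, pullback.diagonal_fst, Category.comp_id, Category.assoc]
      erw [pullback.lift_fst]
      rw [← Category.assoc, pullback.diagonal_fst, Category.id_comp]
    · rw [Category.assoc, pullback.diagonal_snd, Category.comp_id, Category.assoc]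
      erw [pullback.lift_snd]
      rw [← Category.assoc, pullback.diagonal_snd, Category.id_comp]
  have hc : IsClosed (Set.range (pullback.diagonal g)) := by
    rw [← Function.Surjective.range_comp t.surjective]
    show IsClosed (Set.range ((t ≫ pullback.diagonal g) : Z ⟶ _))
    rw [heq]
    exact (pullback.diagonal (t ≫ g) ≫ m).isClosedEmbedding.isClosed_range
  have : IsSeparated g := ⟨IsClosedImmersion.of_isPreimmersion _ hc⟩
  exact ⟨this⟩

variable {A : Type u} [CommRing A] [IsLocalRing A]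
  {Xs : ℕ → Scheme.{u}} {fs : ∀ n : ℕ, Xs n ⟶ Spec (CommRingCat.of (A ⧸ IsLocalRing.maximalIdeal A ^ (n + 1)))}
  {ts : ∀ n : ℕ, Xs n ⟶ Xs (n + 1)}
  (hcart : ∀ n : ℕ, IsPullback (ts n) (fs n) (fs (n + 1))
    (Spec.map (CommRingCat.ofHom (Ideal.Quotient.factor (Ideal.pow_le_pow_right (Nat.le_succ (n + 1)))))))

/-- The composite transition map from the first member. -/
def fromZero (ts : ∀ n : ℕ, Xs n ⟶ Xs (n + 1)) : ∀ n, Xs 0 ⟶ Xs n
  | 0 => 𝟙 _
  | n + 1 => fromZero ts n ≫ ts n

include hcart in
theorem isPullback_fromZero : ∀ n, IsPullback (fromZero ts n) (fs 0) (fs n)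
    (Spec.map (CommRingCat.ofHom (Ideal.Quotient.factor
      (Ideal.pow_le_pow_right (show 0 + 1 ≤ n + 1 by omega) (I := IsLocalRing.maximalIdeal A)))))
  | 0 => by
    rw [Ideal.Quotient.factor_eq, CommRingCat.ofHom_id, Spec.map_id]
    exact IsPullback.id_vert (fs 0) |>.flip
  | n + 1 => by
    have h := (isPullback_fromZero n).paste_horiz (hcart n)
    rw [← Spec.map_comp, ← CommRingCat.ofHom_comp, Ideal.Quotient.factor_comp] at h
    exact h

include hcart in
theorem isClosedImmersion_ts (n : ℕ) : IsClosedImmersion (ts n) :=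
  have := IsClosedImmersion.spec_of_surjective (CommRingCat.ofHom (Ideal.Quotient.factor
    (Ideal.pow_le_pow_right (Nat.le_succ (n + 1)) (I := IsLocalRing.maximalIdeal A))))
    (Ideal.Quotient.factor_surjective (Ideal.pow_le_pow_right (Nat.le_succ (n + 1)) (I := IsLocalRing.maximalIdeal A)))
  MorphismProperty.of_isPullback (P := @IsClosedImmersion) (hcart n).flip inferInstance

include hcart in
theorem sq_ker_ts (n : ℕ) : (ts n).ker ^ 2 = ⊥ := by
  refine sq_eq_bot (fs (n + 1)) (fun V => ideal_ker_of_isPullback _ (Ideal.Quotient.factor_surjective _) (hcart n) V) ?_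
  rw [Ideal.Quotient.factor_ker, ← Ideal.map_mul, ← pow_add, Ideal.map_eq_bot_iff_le_ker, Ideal.mk_ker]
  exact Ideal.pow_le_pow_right (by omega)

include hcart in
theorem subsingleton_HH_ker_ts [IsNoetherianRing A] (hflat : ∀ n, Flat (fs n)) (n i : ℕ)
    (h : Subsingleton (Coh.HH (Xs 0) (Coh.structureModule (Xs 0)) i)) :
    Subsingleton (Coh.HH (Xs (n + 1)) (ClSub.idealMod (ts n).ker) i) := by
  have := hflat (n + 1)
  let 𝔪 := IsLocalRing.maximalIdeal A
  let π := Ideal.Quotient.mk (𝔪 ^ (n + 1 + 1))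
  have hψ0 : Function.Surjective (Ideal.Quotient.factor
      (Ideal.pow_le_pow_right (show 0 + 1 ≤ n + 1 + 1 by omega) (I := 𝔪))) := Ideal.Quotient.factor_surjective _
  have := IsClosedImmersion.spec_of_surjective (CommRingCat.ofHom (Ideal.Quotient.factor
      (Ideal.pow_le_pow_right (show 0 + 1 ≤ n + 1 + 1 by omega) (I := 𝔪)))) hψ0
  have : IsClosedImmersion (fromZero ts (n + 1)) :=
    MorphismProperty.of_isPullback (P := @IsClosedImmersion) (isPullback_fromZero hcart (n + 1)).flip inferInstance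
  obtain ⟨r, b, hb, hindep⟩ := exists_indep_gens (IsNoetherian.noetherian (𝔪 ^ (n + 1)))
  refine subsingleton_HH_step (fs (n + 1)) (fromZero ts (n + 1)) (M := 𝔪.map π) (J := (𝔪 ^ (n + 1)).map π)
    (fun k => π (b k)) ?_ ?_ ?_ ?_ ?_ i h
  · rw [hb, Ideal.map_span, ← Set.range_comp]
    rfl
  · rw [← Ideal.map_mul, ← pow_succ', Ideal.map_eq_bot_iff_le_ker, Ideal.mk_ker]
  · intro c hc k
    choose c' hc' using fun k => Ideal.Quotient.mk_surjective (c k)
    rw [← hc' k]
    refine Ideal.mem_map_of_mem _ (hindep c' ?_ k)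
    rw [← pow_succ', ← Ideal.Quotient.eq_zero_iff_mem, map_sum, ← hc]
    simp only [map_mul, hc']
    rfl
  · intro V
    rw [ideal_ker_of_isPullback _ (Ideal.Quotient.factor_surjective _) (hcart n) V, Ideal.Quotient.factor_ker]
  · intro V
    rw [ideal_ker_of_isPullback _ hψ0 (isPullback_fromZero hcart (n + 1)) V, Ideal.Quotient.factor_ker,
      zero_add, pow_one]

include hcart in
theorem surjective_ts (n : ℕ) : Surjective (ts n) := by
  have := isClosedImmersion_ts hcart n
  refine ⟨fun x => ?_⟩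
  have : x ∈ Set.range (ts n) := by
    rw [FSchLib.range_eq_support_ker, support_eq _ (sq_ker_ts hcart n)]
    trivial
  exact this

include hcart in
theorem isSeparated_level [(Xs 0).IsSeparated] : ∀ n, (Xs n).IsSeparated
  | 0 => inferInstance
  | n + 1 =>
    have := isSeparated_level n
    have := isClosedImmersion_ts hcart n
    have := surjective_ts hcart n
    isSeparated_of_thickening (ts n)

/-- Pullback along a closed immersion through its image. -/
theorem pullback_iso_through_image {Z Y : Scheme.{u}} (t : Z ⟶ Y) [IsClosedImmersion t] (L : Y.Modules) :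
    Nonempty ((Scheme.Modules.pullback t.ker.subschemeι).obj L ≅
      (Scheme.Modules.pullback (inv t.toImage)).obj ((Scheme.Modules.pullback t).obj L)) := by
  have h : inv t.toImage ≫ t = t.ker.subschemeι := by
    rw [IsIso.inv_comp_eq]
    exact t.toImage_imageι.symm
  exact ⟨(Scheme.Modules.pullbackCongr h.symm).app L ≪≫ ((Scheme.Modules.pullbackComp (inv t.toImage) t).app L).symm⟩

theorem pullback_iso_from_image {Z Y : Scheme.{u}} (t : Z ⟶ Y) [IsClosedImmersion t] (L : Y.Modules) :
    Nonempty ((Scheme.Modules.pullback t).obj L ≅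
      (Scheme.Modules.pullback t.toImage).obj ((Scheme.Modules.pullback t.ker.subschemeι).obj L)) :=
  ⟨(Scheme.Modules.pullbackCongr t.toImage_imageι.symm).app L ≪≫
    ((Scheme.Modules.pullbackComp t.toImage t.ker.subschemeι).app L).symm⟩

include hcart in
theorem exists_lift_level [(Xs 0).IsSeparated] [IsNoetherianRing A] (hflat : ∀ n, Flat (fs n))
    (h2 : Subsingleton (Coh.HH (Xs 0) (Coh.structureModule (Xs 0)) 2)) (n : ℕ) {L : (Xs n).Modules}
    (hL : PicF.IsInvertible L) :
    ∃ L' : (Xs (n + 1)).Modules, PicF.IsInvertible L' ∧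
      Nonempty ((Scheme.Modules.pullback (ts n)).obj L' ≅ L) := by
  have := isClosedImmersion_ts hcart n
  have := isSeparated_level hcart (n + 1)
  obtain ⟨L', hL', ⟨e⟩⟩ := exists_invertible_lift (ts n).ker (sq_ker_ts hcart n)
    (subsingleton_HH_ker_ts hcart hflat n 2 h2) (PicLoc.isInvertible_pullback (inv (ts n).toImage) hL)
  obtain ⟨e'⟩ := pullback_iso_from_image (ts n) L'
  refine ⟨L', hL', ⟨e' ≪≫ (Scheme.Modules.pullback (ts n).toImage).mapIso e ≪≫
    (Scheme.Modules.pullbackComp (ts n).toImage (inv (ts n).toImage)).app L ≪≫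
    (Scheme.Modules.pullbackCongr (IsIso.hom_inv_id (ts n).toImage)).app L ≪≫
    (Scheme.Modules.pullbackId (Xs n)).app L⟩⟩

include hcart in
theorem nonempty_iso_level [IsNoetherianRing A] (hflat : ∀ n, Flat (fs n))
    (h1 : Subsingleton (Coh.HH (Xs 0) (Coh.structureModule (Xs 0)) 1)) (n : ℕ) {L L' : (Xs (n + 1)).Modules}
    (hL : PicF.IsInvertible L) (hL' : PicF.IsInvertible L')
    (e : (Scheme.Modules.pullback (ts n)).obj L ≅ (Scheme.Modules.pullback (ts n)).obj L') :
    Nonempty (L ≅ L') := by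
  have := isClosedImmersion_ts hcart n
  obtain ⟨e1⟩ := pullback_iso_through_image (ts n) L
  obtain ⟨e2⟩ := pullback_iso_through_image (ts n) L'
  exact nonempty_iso_of_pullback_iso (ts n).ker (sq_ker_ts hcart n) (subsingleton_HH_ker_ts hcart hflat n 1 h1)
    hL hL' (e1 ≪≫ (Scheme.Modules.pullback (inv (ts n).toImage)).mapIso e ≪≫ e2.symm)

end Groth.Agent.PicDef15
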