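import Groth.Agent.SiteCoh.CechFlasque
import Groth.Agent.Coherent.TopCoh

/-!
# A Čech 1-cocycle is a coboundary when `H¹` vanishes

No separatedness is needed: embed into an injective sheaf.
-/

set_option autoImplicit false
set_option backward.isDefEq.respectTransparency false

universe u

open CategoryTheory CategoryTheory.Limits CategoryTheory.Abelian Opposite TopologicalSpace
open Groth.Agent.SiteCoh Groth.Agent.Coherent

namespace Groth.Agent.PicDef15

variable {X : TopCat.{u}}

/-- Restriction of sections of an abelian sheaf. -/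
noncomputable abbrev resA (F : CohTop.Ab X) {U V : Opens X} (h : V ≤ U) :
    F.obj.obj (op U) →+ F.obj.obj (op V) :=
  (F.obj.map (homOfLE h).op).hom

theorem resA_resA (F : CohTop.Ab X) {U V W : Opens X} (h : V ≤ U) (h' : W ≤ V) (x : F.obj.obj (op U)) :
    resA F h' (resA F h x) = resA F (h'.trans h) x :=
  (ConcreteCategory.congr_hom (F.obj.map_comp (homOfLE h).op (homOfLE h').op) x).symm

theorem resA_app {F G : CohTop.Ab X} (φ : F ⟶ G) {U V : Opens X} (h : V ≤ U) (x : F.obj.obj (op U)) :
    φ.hom.app (op V) (resA F h x) = resA G h (φ.hom.app (op U) x) :=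
  ConcreteCategory.congr_hom (φ.hom.naturality (homOfLE h).op) x

variable {ι : Type u} (W : ι → Opens X)

theorem exists_coboundary_of_injective (I : CohTop.Ab X) [Injective I]
    (c : ∀ i j, I.obj.obj (op (W i ⊓ W j)))
    (hc : ∀ i j k (V : Opens X) (hi : V ≤ W i) (hj : V ≤ W j) (hk : V ≤ W k),
      resA I (le_inf hj hk) (c j k) - resA I (le_inf hi hk) (c i k) + resA I (le_inf hi hj) (c i j) = 0) :
    ∃ y : ∀ i, I.obj.obj (op (W i)), ∀ i j (V : Opens X) (hi : V ≤ W i) (hj : V ≤ W j),
      resA I (le_inf hi hj) (c i j) = resA I hj (y j) - resA I hi (y i) := by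
  let le : ∀ {p : ℕ} (a : Fin (p + 1) → ι) (k : Fin (p + 1)), Cech.inter W a ≤ W (a k) :=
    fun a k => leOfHom (Pi.π (fun k => W (a k)) k)
  have hface : ∀ {p : ℕ} (a : Fin (p + 2) → ι) (q : Fin (p + 2)) (x : I.obj.obj (op (Cech.inter W (a ∘ q.succAbove))))
      (h : Cech.inter W a ≤ Cech.inter W (a ∘ q.succAbove)),
      I.obj.map (Cech.face W a q).op x = resA I h x := fun a q x h => rfl
  let x : (Cech.cx I.obj W).X 1 := Cech.mk I.obj W fun a => resA I (le_inf (le a 0) (le a 1)) (c (a 0) (a 1))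
  have hx : (Cech.cx I.obj W).d 1 2 x = 0 := Cech.ext I.obj W fun a => by
    rw [Cech.ev_d, map_zero, Fin.sum_univ_three]
    simp only [x, Cech.ev_mk]
    rw [hface a 0 _ (leOfHom (Cech.face W a 0)), hface a 1 _ (leOfHom (Cech.face W a 1)),
      hface a 2 _ (leOfHom (Cech.face W a 2)), resA_resA, resA_resA, resA_resA]
    have h := hc (a 0) (a 1) (a 2) (Cech.inter W a) (le a 0) (le a 1) (le a 2)
    simp only [sub_eq_add_neg] at h
    norm_num
    exact h
  obtain ⟨z, hz⟩ := (Cech.isZero_homology_succ_iff I.obj W 0).1 (isZero_cechHTop_of_injective I W 0) x hx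
  have le1 : ∀ i, W i ≤ Cech.inter W ![i] := fun i => leOfHom (Pi.lift fun k => homOfLE (by
    fin_cases k
    exact le_rfl))
  refine ⟨fun i => resA I (le1 i) (Cech.ev I.obj W ![i] z), fun i j V hi hj => ?_⟩
  have hV : V ≤ Cech.inter W ![i, j] := leOfHom (Pi.lift fun k => homOfLE (by
    fin_cases k
    exacts [hi, hj]))
  have h := congrArg (fun w => resA I hV (Cech.ev I.obj W ![i, j] w)) hz
  simp only [Cech.ev_d, x, Cech.ev_mk, map_sum, map_zsmul] at h
  erw [Fin.sum_univ_two] at h
  rw [hface _ 0 _ (leOfHom (Cech.face W _ 0)), hface _ 1 _ (leOfHom (Cech.face W _ 1))] at h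
  simp only [resA_resA] at h
  have key : ∀ (a b : Fin 1 → ι) (_ : a = b) (h : V ≤ Cech.inter W a) (h' : V ≤ Cech.inter W b),
      resA I h (Cech.ev I.obj W a z) = resA I h' (Cech.ev I.obj W b z) := by
    rintro a b rfl h h'
    rfl
  simp only [resA_resA]
  rw [key ![j] (![i, j] ∘ (0 : Fin 2).succAbove) (funext fun q => by fin_cases q; rfl) _
      (hV.trans (leOfHom (Cech.face W _ 0))),
    key ![i] (![i, j] ∘ (1 : Fin 2).succAbove) (funext fun q => by fin_cases q; rfl) _
      (hV.trans (leOfHom (Cech.face W _ 1)))]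
  refine h.symm.trans ?_
  simp [sub_eq_add_neg]

/-- A 1-cocycle of a sheaf with vanishing `H¹` is a coboundary, for every open cover. -/
theorem exists_coboundary_one (hcov : iSup W = ⊤) (F : CohTop.Ab X) (h1 : Subsingleton (Sheaf.H F 1))
    (c : ∀ i j, F.obj.obj (op (W i ⊓ W j)))
    (hc : ∀ i j k (V : Opens X) (hi : V ≤ W i) (hj : V ≤ W j) (hk : V ≤ W k),
      resA F (le_inf hj hk) (c j k) - resA F (le_inf hi hk) (c i k) + resA F (le_inf hi hj) (c i j) = 0) :
    ∃ e : ∀ i, F.obj.obj (op (W i)), ∀ i j (V : Opens X) (hi : V ≤ W i) (hj : V ≤ W j),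
      resA F (le_inf hi hj) (c i j) = resA F hj (e j) - resA F hi (e i) := by
  let S := injEmbed F
  have hS : S.ShortExact := injEmbed_shortExact F
  have : Injective S.X₂ := inferInstanceAs (Injective (Injective.under F))
  have := hS.mono_f
  have hzero : ∀ (U : Opens X) (a : F.obj.obj (op U)), S.g.hom.app (op U) (S.f.hom.app (op U) a) = 0 :=
    fun U a => sections_comp_eq_zero (S := S) U a
  obtain ⟨y, hy⟩ := exists_coboundary_of_injective W S.X₂ (fun i j => S.f.hom.app _ (c i j))
    fun i j k V hi hj hk => by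
      rw [← resA_app, ← resA_app, ← resA_app, ← map_sub, ← map_add, hc i j k V hi hj hk]
      exact map_zero _
  obtain ⟨q, hq, -⟩ := TopCat.Sheaf.existsUnique_gluing' S.X₃ W ⊤ (fun i => homOfLE le_top) hcov.ge
    (fun i => S.g.hom.app _ (y i)) fun i j => by
    show resA S.X₃ inf_le_left (S.g.hom.app _ (y i)) = resA S.X₃ inf_le_right (S.g.hom.app _ (y j))
    have h := congrArg (S.g.hom.app (op (W i ⊓ W j))) (hy i j _ inf_le_left inf_le_right)
    rw [← resA_app, hzero, map_sub, resA_app, resA_app] at h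
    exact (sub_eq_zero.1 h.symm).symm
  obtain ⟨φ, hφ⟩ := exists_comp_eq_of_subsingleton_ext hS h1 ((constZEquiv S.X₃).symm q)
  have hY : S.g.hom.app (op ⊤) (constZEquiv S.X₂ φ) = q := by
    rw [← constZEquiv_comp, hφ, AddEquiv.apply_symm_apply]
  choose e he using fun i => sections_exact hS (W i) (y i - resA S.X₂ le_top (constZEquiv S.X₂ φ)) (by
    rw [map_sub, resA_app, hY]
    exact sub_eq_zero.2 (hq i).symm)
  refine ⟨e, fun i j V hi hj => sections_injective S.f V ?_⟩
  show S.f.hom.app (op V) _ = S.f.hom.app (op V) _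
  rw [map_sub, resA_app, resA_app, resA_app, he, he, map_sub, map_sub, resA_resA, resA_resA,
    hy i j V hi hj]
  abel

end Groth.Agent.PicDef15
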